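import Cfsg.Agent.H50.Fi22C.Quot
import Cfsg.Agent.H2.U6E.Ext

/-!
The core of the involution centraliser modulo its centre: natural module or two fixed dimensions.
-/

set_option autoImplicit false
set_option maxRecDepth 100000

namespace H50.Fi22C

open H38.U6C H50.U6C H2.U6E H39.Fi22C

universe u v

/-- The module is natural, or has two dimensions fixed by `H₀`. -/
theorem moduleJ : ModuleJStmt.{u, v} := by
  classical
  intro G _ _ F _ _ z a J H₀ π S
  have := aSub_normal S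
  obtain ⟨π', hB⟩ := base_quot S
  set zq := pr S ⟨z, S.J_le S.z_mem⟩ with hzq
  have hsurj : ∀ q, ∃ x : ↥H₀, pr S x = q := QuotientGroup.mk'_surjective _
  have hall : ∀ q : Q S, q ∈ Subgroup.centralizer ({zq} : Set (Q S)) := fun q => by
    obtain ⟨x, rfl⟩ := hsurj q
    exact Subgroup.mem_centralizer_singleton_iff.2 ((Commute.map (show Commute
      (⟨z, S.J_le S.z_mem⟩ : ↥H₀) x from Subtype.ext
        (Subgroup.mem_centralizer_iff.1 (S.le_cent x.2) z rfl)) (pr S)).eq.symm)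
  set C := Subgroup.centralizer ({z} : Set G) with hC
  have hzC : ∀ g : C, z * (g : G) = g * z := fun g => Subgroup.mem_centralizer_iff.1 g.2 z rfl
  have hza : z * a = a * z := hzC ⟨a, S.le_cent (S.J_le S.a_mem)⟩
  have four_mem : ∀ {p : G}, (p = 1 ∨ p = z ∨ p = a ∨ p = a * z) → p ∈ J := by
    rintro p (rfl | rfl | rfl | rfl)
    exacts [J.one_mem, S.z_mem, S.a_mem, mul_mem S.a_mem S.z_mem]
  -- four elements lie over `{1, z}`
  have h4 : ∀ x : ↥H₀, (pr S x = 1 ∨ pr S x = zq) ↔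
      ((x : G) = 1 ∨ (x : G) = z ∨ (x : G) = a ∨ (x : G) = a * z) := by
    intro x
    rw [← map_one (pr S), hzq, eq_comm, @eq_comm _ (pr S x) (pr S ⟨z, _⟩), pr_eq S, pr_eq S,
      Subgroup.coe_one, one_mul, Subtype.coe_mk, hza]
    tauto
  have hJmem : ∀ x : ↥H₀, pr S x ∈ (J.subgroupOf H₀).map (pr S) ↔ (x : G) ∈ J := by
    refine fun x => ⟨?_, fun hx => ⟨x, hx, rfl⟩⟩
    rintro ⟨y, hy, hyx⟩
    rcases (pr_eq S).1 hyx with h | h <;> rw [h]
    exacts [hy, mul_mem hy S.a_mem]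
  rcases module_dichotomy hB with ⟨φ₀, ρ₀, N⟩ | ⟨U, hU⟩
  swap
  · right
    refine ⟨(U.comap (pr S)).map H₀.subtype, ?_⟩
    have hUmem : ∀ x : ↥H₀, (x : G) ∈ (U.comap (pr S)).map H₀.subtype ↔ pr S x ∈ U := fun x =>
      ⟨fun ⟨y, hy, hyx⟩ => Subtype.ext (show (y : G) = x from hyx) ▸ hy, fun h => ⟨x, h, rfl⟩⟩
    refine ⟨?_, (hUmem ⟨z, S.J_le S.z_mem⟩).2 hU.z_mem, ?_, ?_, ?_, ?_⟩
    · rintro _ ⟨y, hy, rfl⟩
      exact (hJmem y).1 (hU.le hy)
    · refine (hUmem ⟨a, S.J_le S.a_mem⟩).2 ?_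
      have : pr S ⟨a, S.J_le S.a_mem⟩ = 1 := by
        rcases (h4 ⟨a, S.J_le S.a_mem⟩).2 (Or.inr (Or.inr (Or.inl rfl))) with h | h
        · exact h
        · exact (QuotientGroup.eq_one_iff _).2 ((mem_aSub S).2 (Or.inr rfl))
      rw [this]; exact U.one_mem
    · rw [← Nat.card_congr ((U.comap (pr S)).equivMapOfInjective _ H₀.subtype_injective).toEquiv]
      let f : ↥(U.comap (pr S)) →* ↥U := (pr S).subgroupComap U
      have hf : Function.Surjective f := fun q => by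
        obtain ⟨x, hx⟩ := hsurj q.1
        exact ⟨⟨x, show pr S x ∈ U by rw [hx]; exact q.2⟩, Subtype.ext hx⟩
      have hk : Nat.card f.ker = 2 := by
        have e : Set.range (fun x : f.ker => (((x : ↥(U.comap (pr S))) : ↥H₀) : G)) = {1, a} := by
          ext x
          simp only [Set.mem_range, Set.mem_insert_iff, Set.mem_singleton_iff]
          constructor
          · rintro ⟨⟨y, hy⟩, rfl⟩
            exact (mem_aSub S).1 ((QuotientGroup.eq_one_iff _).1 (congrArg Subtype.val hy))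
          · have hker : ∀ y : ↥H₀, y ∈ aSub S →
                ∃ k : f.ker, (((k : ↥(U.comap (pr S))) : ↥H₀) : G) = y := fun y hy => by
              have h1 : pr S y = 1 := (QuotientGroup.eq_one_iff _).2 hy
              exact ⟨⟨⟨y, show pr S y ∈ U by rw [h1]; exact U.one_mem⟩, Subtype.ext h1⟩, rfl⟩
            rintro (rfl | rfl)
            · exact hker 1 (one_mem _)
            · exact hker ⟨x, S.J_le S.a_mem⟩ ((mem_aSub S).2 (Or.inr rfl))
        have e' := congrArg Set.ncard e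
        rwa [Set.ncard_pair S.a_out.1.symm, ← Nat.card_coe_set_eq,
          Nat.card_range_of_injective (fun p q h => Subtype.ext (Subtype.ext (Subtype.ext h)))] at e'
      have h1 := Subgroup.card_mul_index f.ker
      rw [Subgroup.index_ker, MonoidHom.range_eq_top.2 hf, Subgroup.card_top, hk, hU.card] at h1
      omega
    · rintro _ ⟨y, hy, rfl⟩ hc
      refine (h4 y).1 (hU.nondeg _ hy fun q hq => ?_)
      obtain ⟨w, rfl⟩ := hsurj q
      exact Commute.map (show Commute y w from Subtype.ext (hc _ ((hUmem w).2 hq)).eq) (pr S)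
    · rintro g hg _ ⟨y, hy, rfl⟩
      refine (h4 (y⁻¹ * (⟨g, hg⟩ * y * (⟨g, hg⟩ : ↥H₀)⁻¹))).1 ?_
      rw [map_mul, map_mul, map_mul, map_inv, map_inv]
      rcases hU.fix (pr S ⟨g, hg⟩) (hall _) (pr S y) hy with h | h <;> rw [h]
      · exact Or.inl (inv_mul_cancel _)
      · exact Or.inr (inv_mul_cancel_left _ _)
  left
  let φ : G → V := fun g => if h : g ∈ H₀ then φ₀ (pr S ⟨g, h⟩) else 0
  have hφ : ∀ (p : G) (hp : p ∈ J), φ p = φ₀ (pr S ⟨p, S.J_le hp⟩) := fun p hp => dif_pos _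
  have hm : ∀ {p : G} (hp : p ∈ J), pr S ⟨p, S.J_le hp⟩ ∈ (J.subgroupOf H₀).map (pr S) :=
    fun hp => (hJmem _).2 hp
  have φ_mul : ∀ p ∈ J, ∀ q ∈ J, φ (p * q) = vadd (φ p) (φ q) := fun p hp q hq => by
    rw [hφ _ (mul_mem hp hq), hφ p hp, hφ q hq, ← N.φ_mul _ (hm hp) _ (hm hq), ← map_mul]
    rfl
  have φ_surj : ∀ v, ∃ p ∈ J, φ p = v := fun v => by
    obtain ⟨_, ⟨x, hx, rfl⟩, rfl⟩ := N.φ_surj v
    exact ⟨x, hx, hφ x hx⟩
  have φ_ker : ∀ p ∈ J, (φ p = 0 ↔ p = 1 ∨ p = z ∨ p = a ∨ p = a * z) := fun p hp => by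
    rw [hφ p hp, N.φ_ker _ (hm hp)]
    exact h4 ⟨p, S.J_le hp⟩
  have zq_ne : zq ≠ 1 := hB.ne_one
  have φ_sq : ∀ p ∈ J, p * p = if qv (φ p) then z else 1 := fun p hp => by
    have h := N.φ_sq _ (hm hp)
    rw [← map_mul] at h
    rw [hφ p hp]
    rcases S.sq_mem p hp with e | e <;>
      cases hq : qv (φ₀ (pr S ⟨p, S.J_le hp⟩)) <;> rw [hq] at h <;>
      simp only [Bool.false_eq_true, if_false, if_true] at h ⊢
    · exact e
    · rw [show (⟨p, S.J_le hp⟩ * ⟨p, S.J_le hp⟩ : ↥H₀) = 1 from Subtype.ext e, map_one] at h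
      exact absurd h.symm zq_ne
    · rw [show (⟨p, S.J_le hp⟩ * ⟨p, S.J_le hp⟩ : ↥H₀) = ⟨z, S.J_le S.z_mem⟩ from
        Subtype.ext e] at h
      exact absurd h zq_ne
    · exact e
  have φ_comm : ∀ p ∈ J, ∀ q ∈ J, p * q = q * p * if pol (φ p) (φ q) then z else 1 :=
    fun p hp q hq => by
      have h := N.φ_comm _ (hm hp) _ (hm hq)
      rw [← map_mul, ← map_mul] at h
      rw [hφ p hp, hφ q hq]
      rcases S.comm_mem p hp q hq with e | e <;>
        cases hp' : pol (φ₀ (pr S ⟨p, S.J_le hp⟩)) (φ₀ (pr S ⟨q, S.J_le hq⟩)) <;> rw [hp'] at h <;>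
        simp only [Bool.false_eq_true, if_false, if_true, mul_one] at h ⊢
      · exact e
      · rw [show (⟨p, S.J_le hp⟩ * ⟨q, S.J_le hq⟩ : ↥H₀) = ⟨q, S.J_le hq⟩ * ⟨p, S.J_le hp⟩ from
          Subtype.ext e, left_eq_mul] at h
        exact absurd h zq_ne
      · rw [show (⟨p, S.J_le hp⟩ * ⟨q, S.J_le hq⟩ : ↥H₀) =
          ⟨q, S.J_le hq⟩ * ⟨p, S.J_le hp⟩ * ⟨z, S.J_le S.z_mem⟩ from Subtype.ext e, map_mul,
          mul_eq_left] at h
        exact absurd h zq_ne
      · exact e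
  have φ_one : φ 1 = 0 := (φ_ker 1 (one_mem J)).2 (Or.inl rfl)
  have φ_inv : ∀ p ∈ J, φ p⁻¹ = φ p := fun p hp => by
    have h := φ_mul _ (inv_mem hp) _ hp
    rw [inv_mul_cancel, φ_one] at h
    rw [← vadd_zero' (φ p⁻¹), ← vadd_self (φ p), ← vadd_assoc, ← h, vadd_comm, vadd_zero']
  choose lift hlift hlφ using φ_surj
  have conj_φ : ∀ g : C, ∀ p ∈ J, ∀ q ∈ J, φ p = φ q →
      φ ((g : G) * p * (g : G)⁻¹) = φ ((g : G) * q * (g : G)⁻¹) := by
    intro g p hp q hq h
    have hd : φ (q⁻¹ * p) = 0 := by rw [φ_mul _ (inv_mem hq) _ hp, φ_inv q hq, h, vadd_self]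
    have hdJ := mul_mem (inv_mem hq) hp
    have h' : φ ((g : G) * (q⁻¹ * p) * (g : G)⁻¹) = 0 := by
      refine (φ_ker _ (S.conj_mem g g.2 _ hdJ)).2 ?_
      have hgz : (g : G) * z * (g : G)⁻¹ = z := by rw [← hzC g, mul_inv_cancel_right]
      rcases (φ_ker _ hdJ).1 hd with e | e | e | e <;> rw [e]
      · exact Or.inl (by group)
      · exact Or.inr (Or.inl hgz)
      · rcases S.conj_a g g.2 with e' | e'
        exacts [Or.inr (Or.inr (Or.inl e')), Or.inr (Or.inr (Or.inr e'))]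
      · rw [show (g : G) * (a * z) * (g : G)⁻¹ = (g : G) * a * (g : G)⁻¹ * ((g : G) * z * (g : G)⁻¹)
          by group, hgz]
        rcases S.conj_a g g.2 with e' | e' <;> rw [e']
        · exact Or.inr (Or.inr (Or.inr rfl))
        · exact Or.inr (Or.inr (Or.inl (by rw [mul_assoc, S.sq, mul_one])))
    rw [show (g : G) * p * (g : G)⁻¹ =
      (g : G) * q * (g : G)⁻¹ * ((g : G) * (q⁻¹ * p) * (g : G)⁻¹) by group,
      φ_mul _ (S.conj_mem g g.2 q hq) _ (S.conj_mem g g.2 _ hdJ), h', vadd_zero']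
  let act : C → V → V := fun g v => φ ((g : G) * lift v * (g : G)⁻¹)
  have act_φ : ∀ (g : C) (j : G), j ∈ J → φ ((g : G) * j * (g : G)⁻¹) = act g (φ j) :=
    fun g j hj => conj_φ g j hj _ (hlift _) (hlφ _).symm
  have act_mul : ∀ g h : C, ∀ v, act (g * h) v = act g (act h v) := fun g h v => by
    show φ (((g * h : C) : G) * lift v * ((g * h : C) : G)⁻¹) =
      act g (φ ((h : G) * lift v * (h : G)⁻¹))
    rw [← act_φ g _ (S.conj_mem h h.2 _ (hlift v))]
    congr 1
    rw [Subgroup.coe_mul]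
    group
  have act_one : ∀ v, act 1 v = v := fun v => by
    show φ ((1 : C) * lift v * ((1 : C) : G)⁻¹) = v
    simp [hlφ]
  let ρ : C →* Equiv.Perm V :=
    { toFun := fun g => ⟨act g, act g⁻¹, fun v => by rw [← act_mul, inv_mul_cancel, act_one],
        fun v => by rw [← act_mul, mul_inv_cancel, act_one]⟩
      map_one' := Equiv.ext act_one
      map_mul' := fun g h => Equiv.ext (act_mul g h) }
  have ρ_φ : ∀ (g : C) (j : G), j ∈ J → φ ((g : G) * j * (g : G)⁻¹) = ρ g (φ j) := act_φ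
  have ρ_add : ∀ (g : C) a b, ρ g (vadd a b) = vadd (ρ g a) (ρ g b) := fun g a b => by
    rw [← hlφ a, ← hlφ b, ← φ_mul _ (hlift a) _ (hlift b),
      ← ρ_φ g _ (mul_mem (hlift a) (hlift b)), ← ρ_φ g _ (hlift a), ← ρ_φ g _ (hlift b),
      ← φ_mul _ (S.conj_mem g g.2 _ (hlift a)) _ (S.conj_mem g g.2 _ (hlift b))]
    congr 1
    group
  have ρ_qv : ∀ (g : C) a, qv (ρ g a) = qv a := fun g a => by
    have h1 := φ_sq _ (S.conj_mem g g.2 _ (hlift a))
    have h2 := φ_sq _ (hlift a)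
    rw [show (g : G) * lift a * (g : G)⁻¹ * ((g : G) * lift a * (g : G)⁻¹) =
      (g : G) * (lift a * lift a) * (g : G)⁻¹ by group, h2, ρ_φ g _ (hlift a), hlφ] at h1
    cases hq : qv a <;> cases hq' : qv (ρ g a) <;> simp [hq, hq', ← hzC g] at h1 ⊢
    · exact S.ne_one h1.symm
    · exact S.ne_one h1
  -- on the subgroup of index two
  have ρ₀_eq : ∀ (g : C) (hg : (g : G) ∈ H₀), ρ g = ρ₀ ⟨pr S ⟨g, hg⟩, hall _⟩ := fun g hg =>
    Equiv.ext fun v => by
      obtain ⟨_, ⟨x, hx, rfl⟩, rfl⟩ := N.φ_surj v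
      have hc := hm (S.conj_mem g g.2 x hx)
      rw [← N.ρ_φ _ _ (hJmem x |>.2 hx), ← hφ x hx, ← ρ_φ g x hx, hφ _ (S.conj_mem g g.2 x hx)]
      show φ₀ _ = φ₀ (pr S ⟨g, hg⟩ * pr S x * (pr S ⟨g, hg⟩)⁻¹)
      rw [← map_inv, ← map_mul, ← map_mul]
      rfl
  have range₀ : (H₀.subgroupOf C).map ρ = uGroup := by
    rw [← N.ρ_range]
    ext f
    constructor
    · rintro ⟨g, hg, rfl⟩
      exact ⟨_, (ρ₀_eq g hg).symm⟩
    · rintro ⟨⟨q, hq⟩, rfl⟩
      obtain ⟨⟨x, hx⟩, rfl⟩ := hsurj q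
      exact ⟨⟨x, S.le_cent hx⟩, hx, ρ₀_eq _ hx⟩
  have mem_u : ∀ g : C, (g : G) ∈ H₀ → ρ g ∈ uGroup := fun g hg => range₀ ▸ ⟨g, hg, rfl⟩
  have ker₀ : ∀ g : C, (g : G) ∈ H₀ → (ρ g = 1 ↔ (g : G) ∈ J) := fun g hg => by
    rw [ρ₀_eq g hg, N.ρ_ker]
    exact hJmem ⟨g, hg⟩
  have ρ_ker : ∀ g : C, ρ g = 1 ↔ (g : G) ∈ J := by
    intro g
    by_cases hg : (g : G) ∈ H₀
    · exact ker₀ g hg
    refine ⟨fun h => absurd (S.inner g g.2 fun x hx => ?_) hg, fun h => absurd (S.J_le h) hg⟩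
    have hxC : x ∈ C := S.le_cent hx
    refine (ker₀ (g * ⟨x, hxC⟩ * g⁻¹ * ⟨x, hxC⟩⁻¹)
      (mul_mem (S.conj_H₀ g g.2 x hx) (inv_mem hx))).1 ?_
    rw [map_mul, map_mul, map_mul, map_inv, map_inv, h]
    simp
  have hcardU : Nat.card uGroup = 25920 := by
    have h1 := Subgroup.card_mul_index ρ₀.ker
    rw [Subgroup.index_ker, N.ρ_range, N.card_cent] at h1
    have hk : Nat.card ρ₀.ker = 2 ^ 9 := by
      rw [← N.card_J]
      exact Nat.card_congr
        ⟨fun x => ⟨x.1.1, (N.ρ_ker x.1).1 x.2⟩, fun y => ⟨⟨y.1, N.le_cent y.2⟩, (N.ρ_ker _).2 y.2⟩,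
          fun x => rfl, fun y => rfl⟩
    rw [hk] at h1
    exact Nat.eq_of_mul_eq_mul_left (by norm_num) h1
  have hω : omegaPerm ∉ uGroup := by
    intro h
    rw [← range₀] at h
    obtain ⟨g, hg, hgω⟩ := h
    have hg' : (g : G) ∈ H₀ := hg
    have hcen : π ⟨g, hg'⟩ ∈ Subgroup.center (Cfsg.PSp 2 F) := Subgroup.mem_center_iff.2 fun p => by
      obtain ⟨y, rfl⟩ := S.π_surj p
      let y' : C := ⟨y, S.le_cent y.2⟩
      have h1 : ρ (y' * g * y'⁻¹ * g⁻¹) = 1 := by
        rw [map_mul, map_mul, map_mul, map_inv, map_inv, hgω,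
          omegaPerm_comm (uGroup_le_isom (mem_u y' y.2))]
        simp
      have h2 : π (y * ⟨g, hg'⟩ * y⁻¹ * ⟨g, hg'⟩⁻¹) = 1 := (S.π_ker _).2 ((ρ_ker _).1 h1)
      rw [map_mul, map_mul, map_mul, map_inv, map_inv, mul_inv_eq_one, mul_inv_eq_iff_eq_mul] at h2
      exact h2
    rw [H48.center_psp_eq_bot le_rfl (fun _ => by have := S.card_F; omega), Subgroup.mem_bot,
      S.π_ker] at hcen
    exact omegaPerm_ne_one (hgω.symm.trans ((ρ_ker g).2 hcen))
  have hanti : ∀ g : C, (g : G) ∉ H₀ → IsAnti (ρ g) := by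
    intro g hg
    set f := ρ g with hf
    have hfadd : ∀ a b, f (vadd a b) = vadd (f a) (f b) := ρ_add g
    have hfiadd : ∀ a b, f⁻¹ (vadd a b) = vadd (f⁻¹ a) (f⁻¹ b) := by
      rw [hf, ← map_inv]; exact ρ_add g⁻¹
    have hcomm : ∀ i, f * omegaPerm * f⁻¹ * H38.U6C.tv i = H38.U6C.tv i * (f * omegaPerm * f⁻¹) := by
      intro i
      have hm : H38.U6C.tv i ∈ uGroup := Subgroup.subset_closure ⟨i, rfl⟩
      rw [← range₀] at hm
      obtain ⟨x, hx, hxi⟩ := hm
      have hx' : ρ (g⁻¹ * x * g) ∈ uGroup := mem_u _ (by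
        have := S.conj_H₀ (g : G)⁻¹ (inv_mem g.2) x hx
        simpa using this)
      rw [map_mul, map_mul, map_inv, hxi, ← hf] at hx'
      have h' := omegaPerm_comm (uGroup_le_isom hx')
      calc f * omegaPerm * f⁻¹ * H38.U6C.tv i = f * (omegaPerm * (f⁻¹ * H38.U6C.tv i * f)) * f⁻¹ := by group
        _ = f * (f⁻¹ * H38.U6C.tv i * f * omegaPerm) * f⁻¹ := by rw [h']
        _ = H38.U6C.tv i * (f * omegaPerm * f⁻¹) := by group
    obtain ⟨c, hc⟩ := commutant (f := f * omegaPerm * f⁻¹) (fun a b => by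
      simp only [Equiv.Perm.mul_apply, omegaPerm_apply, hfiadd, smul4_vadd (show 2 < 4 by norm_num),
        hfadd]) hcomm
    have hc' : ∀ a, f (smul4 2 a) = smul4 c (f a) := fun a => by
      rw [← hc]; simp [omegaPerm_apply]
    have hc0 : c ≠ 0 := fun h => by
      subst h
      exact absurd (f.injective ((hc' 1).trans (by
        show smul4 0 (f 1) = f 0
        have h0 := hfadd 0 0
        rw [vadd_self, vadd_self] at h0
        rw [smul4_zero_left, h0]))) (by decide)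
    have hc1 : c ≠ 1 := fun h => by
      subst h
      exact absurd (f.injective ((hc' 1).trans (smul4_one _))) (by decide)
    fin_cases c
    · exact absurd rfl hc0
    · exact absurd rfl hc1
    · exfalso
      have hfI : f ∈ isom := ⟨hfadd, hc', ρ_qv g⟩
      obtain ⟨u, hu, k, hk⟩ := isom_decomp hcardU hω hfI
      have hsq : f * f ∈ uGroup := by
        rw [hf, ← map_mul]
        exact mem_u _ (S.out_mul g g.2 g g.2 hg hg)
      have hk0 : k.val = 0 := by
        have hcu : Commute u omegaPerm := omegaPerm_comm (uGroup_le_isom hu)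
        rw [hk, ← pow_two, (hcu.pow_right _).mul_pow, ← pow_mul] at hsq
        have h2 : omegaPerm ^ (k.val * 2) ∈ uGroup := by
          have := mul_mem (inv_mem (pow_mem hu 2)) hsq
          rwa [inv_mul_cancel_left] at this
        by_contra hne
        apply hω
        rcases (show k.val = 1 ∨ k.val = 2 by omega) with e | e <;> rw [e] at h2
        · have := mul_mem h2 h2
          rwa [← pow_add, show 1 * 2 + 1 * 2 = 3 + 1 from rfl, pow_succ, omegaPerm_cube,
            one_mul] at this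
        · rwa [show 2 * 2 = 3 + 1 from rfl, pow_succ, omegaPerm_cube, one_mul] at h2
      rw [hk0, pow_zero, mul_one] at hk
      rw [← hk, ← range₀] at hu
      obtain ⟨x, hx, hxg⟩ := hu
      have hgx : ρ (g * x⁻¹) = 1 := by rw [map_mul, map_inv, hxg, mul_inv_cancel]
      have h2 := mul_mem (S.J_le ((ρ_ker _).1 hgx)) hx
      exact hg (by simpa using h2)
    · have hlin : IsLin (f * sigC) := isLin_of_isom ⟨fun a b => by
          simp only [Equiv.Perm.mul_apply, sigC_anti.add, hfadd], fun a => ?_, fun a => by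
          simp only [Equiv.Perm.mul_apply, ρ_qv, hf, sigC_anti.qv_eq]⟩
      swap
      · simp only [Equiv.Perm.mul_apply]
        rw [show sigC (smul4 2 a) = smul4 (fconj 2) (sigC a) from sigC_anti.smul 2 a,
          show fconj 2 = fmul 2 2 by decide, ← smul4_smul4 (by norm_num) (by norm_num), hc', hc']
        show smul4 3 (smul4 3 _) = _
        rw [smul4_smul4 (by norm_num) (by norm_num), show fmul 3 3 = 2 by decide]
      have := hlin.mul_anti sigC_anti
      rwa [mul_assoc, sigC_mul_self, mul_one] at this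
  refine ⟨φ, ρ,
    { toCore :=
        { z_sq := S.sq
          z_ne := S.ne_one
          a_mem := S.a_mem
          z_mem := S.z_mem
          le_cent := fun p hp => S.le_cent (S.J_le hp)
          a_comm := fun p hp => S.a_H₀ p (S.J_le hp)
          a_sq := S.a_sq
          a_out := S.a_out
          card_J := S.card_J
          conj_mem := S.conj_mem
          φ_mul := φ_mul
          φ_surj := fun v => ⟨lift v, hlift v, hlφ v⟩
          φ_ker := φ_ker
          φ_sq := φ_sq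
          φ_comm := φ_comm
          ρ_φ := ρ_φ
          ρ_ker := ρ_ker
          lin_or_anti := fun g => ?_ }
      range₀ := range₀
      lin_of_mem := fun g hg => isLin_of_isom (uGroup_le_isom (mem_u g hg))
      anti_of_not_mem := hanti }⟩
  by_cases hg : (g : G) ∈ H₀
  · exact Or.inl (isLin_of_isom (uGroup_le_isom (mem_u g hg)))
  · exact Or.inr (hanti g hg)

end H50.Fi22C
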