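import Cfsg.Agent.H39.Fi22C.Basic
import Cfsg.Agent.H50.U6C.Core

/-!
The part `H₀` of the involution centraliser modulo `⟨a⟩` satisfies the hypotheses of the recognition
of the module.
-/

set_option autoImplicit false

namespace H50.Fi22C

open H38.U6C H39.Fi22C

variable {G : Type*} [Group G] {F : Type*} [Field F] [Fintype F] {z a : G} {J H₀ : Subgroup G}
  {π : ↥H₀ →* Cfsg.PSp 2 F}

/-- The subgroup `⟨a⟩` of `H₀`. -/
def aSub (S : Setup3 z a J H₀ π) : Subgroup ↥H₀ where
  carrier := {x | (x : G) = 1 ∨ (x : G) = a}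
  one_mem' := Or.inl rfl
  mul_mem' := by
    rintro x y (hx | hx) (hy | hy)
    · exact Or.inl (by rw [Subgroup.coe_mul, hx, hy, one_mul])
    · exact Or.inr (by rw [Subgroup.coe_mul, hx, hy, one_mul])
    · exact Or.inr (by rw [Subgroup.coe_mul, hx, hy, mul_one])
    · exact Or.inl (by rw [Subgroup.coe_mul, hx, hy, S.a_sq])
  inv_mem' := by
    rintro x (hx | hx)
    · exact Or.inl (by rw [Subgroup.coe_inv, hx, inv_one])
    · exact Or.inr (by rw [Subgroup.coe_inv, hx, inv_eq_of_mul_eq_one_right S.a_sq])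

theorem mem_aSub (S : Setup3 z a J H₀ π) {x : ↥H₀} :
    x ∈ aSub S ↔ (x : G) = 1 ∨ (x : G) = a := Iff.rfl

theorem aSub_normal (S : Setup3 z a J H₀ π) : (aSub S).Normal := ⟨fun n hn g => by
  rw [mem_aSub] at hn ⊢
  rcases hn with hn | hn
  · exact Or.inl (by simp [hn])
  · right
    rw [Subgroup.coe_mul, Subgroup.coe_mul, Subgroup.coe_inv, hn, ← (S.a_H₀ g g.2).eq,
      mul_inv_cancel_right]⟩

/-- `H₀` modulo `⟨a⟩`. -/
abbrev Q (S : Setup3 z a J H₀ π) : Type _ := ↥H₀ ⧸ aSub S

/-- The projection. -/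
noncomputable def pr (S : Setup3 z a J H₀ π) [(aSub S).Normal] : ↥H₀ →* Q S :=
  QuotientGroup.mk' (aSub S)

theorem pr_eq (S : Setup3 z a J H₀ π) [(aSub S).Normal] {x y : ↥H₀} :
    pr S x = pr S y ↔ (y : G) = x ∨ (y : G) = x * a := by
  rw [pr, QuotientGroup.mk'_apply, QuotientGroup.mk'_apply, QuotientGroup.eq, mem_aSub,
    Subgroup.coe_mul, Subgroup.coe_inv]
  constructor
  · rintro (h | h)
    · exact Or.inl (inv_mul_eq_one.1 h).symm
    · exact Or.inr (inv_mul_eq_iff_eq_mul.1 h)
  · rintro (h | h) <;> simp [h]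

theorem az_ne (S : Setup3 z a J H₀ π) : a * z ≠ 1 := fun e => S.a_out.2 (by
  rw [eq_inv_of_mul_eq_one_left e, inv_eq_of_mul_eq_one_right S.sq])

/-- An element acting trivially on `J` modulo `⟨a⟩` lies in `J`. -/
theorem mem_J_of_trivial [Finite G] (S : Setup3 z a J H₀ π) {g : ↥H₀}
    (hg : ∀ j ∈ J, (g : G) * j * (g : G)⁻¹ = j ∨ (g : G) * j * (g : G)⁻¹ = j * a) :
    (g : G) ∈ J := by
  let K : Subgroup ↥H₀ :=
    { carrier := {x | ∀ j ∈ J, (x : G) * j * (x : G)⁻¹ = j ∨ (x : G) * j * (x : G)⁻¹ = j * a}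
      one_mem' := fun j _ => Or.inl (by simp)
      mul_mem' := fun {x y} hx hy j hj => by
        rw [Subgroup.coe_mul, show (x : G) * y * j * ((x : G) * y)⁻¹ =
          (x : G) * ((y : G) * j * (y : G)⁻¹) * (x : G)⁻¹ by group]
        rcases hy j hj with e | e <;> rw [e]
        · exact hx j hj
        · rw [show (x : G) * (j * a) * (x : G)⁻¹ = (x : G) * j * (x : G)⁻¹ * ((x : G) * a * (x : G)⁻¹)
            by group, ← (S.a_H₀ x x.2).eq, mul_inv_cancel_right]
          rcases hx j hj with e' | e' <;> rw [e']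
          · exact Or.inr rfl
          · exact Or.inl (by rw [mul_assoc, S.a_sq, mul_one])
      inv_mem' := fun {x} hx j hj => by
        have hj' : (x : G)⁻¹ * j * (x : G) ∈ J := by
          have := S.conj_mem (x : G)⁻¹ (inv_mem (S.le_cent x.2)) j hj
          simpa using this
        rw [Subgroup.coe_inv, inv_inv]
        rcases hx _ hj' with e | e
        · left
          rw [← e]
          group
        · right
          have e' : j = (x : G)⁻¹ * j * (x : G) * a := by rw [← e]; group
          calc (x : G)⁻¹ * j * (x : G) = (x : G)⁻¹ * j * (x : G) * (a * a) := by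
                rw [S.a_sq, mul_one]
            _ = j * a := by rw [← mul_assoc, ← e'] }
  have hKn : K.Normal := ⟨fun n hn x j hj => by
    have hj' : (x : G)⁻¹ * j * (x : G) ∈ J := by
      have := S.conj_mem (x : G)⁻¹ (inv_mem (S.le_cent x.2)) j hj
      simpa using this
    simp only [Subgroup.coe_mul, Subgroup.coe_inv]
    rw [show (x : G) * n * (x : G)⁻¹ * j * ((x : G) * n * (x : G)⁻¹)⁻¹ =
      (x : G) * ((n : G) * ((x : G)⁻¹ * j * (x : G)) * (n : G)⁻¹) * (x : G)⁻¹ by group]
    rcases hn _ hj' with e | e <;> rw [e]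
    · exact Or.inl (by group)
    · right
      rw [show (x : G) * ((x : G)⁻¹ * j * (x : G) * a) * (x : G)⁻¹ =
        j * ((x : G) * a * (x : G)⁻¹) by group, ← (S.a_H₀ x x.2).eq, mul_inv_cancel_right]⟩
  have hmap : (K.map π).Normal := hKn.map π S.π_surj
  rcases S.simple_psp.eq_bot_or_eq_top_of_normal _ hmap with h | h
  · refine (S.π_ker g).1 ?_
    rw [← Subgroup.mem_bot, ← h]
    exact ⟨g, hg, rfl⟩
  · exfalso
    have hcomm : ∀ p q : Cfsg.PSp 2 F, p * q = q * p := by
      intro p q
      obtain ⟨x, hx, rfl⟩ := (h ▸ Subgroup.mem_top p : p ∈ K.map π)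
      obtain ⟨y, hy, rfl⟩ := (h ▸ Subgroup.mem_top q : q ∈ K.map π)
      have hcen : ((x * y * (y * x)⁻¹ : ↥H₀) : G) ∈ J := by
        refine S.self_cent _ (S.le_cent (SetLike.coe_mem _)) fun j hj => ?_
        have hj' : (x : G)⁻¹ * ((y : G)⁻¹ * j * (y : G)) * (x : G) ∈ J := by
          have h1 := S.conj_mem _ (inv_mem (S.le_cent x.2)) _
            (S.conj_mem _ (inv_mem (S.le_cent y.2)) j hj)
          simpa using h1
        have hswap : ∀ k ∈ J, (x : G) * ((y : G) * k * (y : G)⁻¹) * (x : G)⁻¹ =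
            (y : G) * ((x : G) * k * (x : G)⁻¹) * (y : G)⁻¹ := by
          intro k hk
          have ha : ∀ u : ↥H₀, (u : G) * a * (u : G)⁻¹ = a := fun u => by
            rw [← (S.a_H₀ u u.2).eq, mul_inv_cancel_right]
          have split : ∀ p q r : G, p * (q * r) * p⁻¹ = p * q * p⁻¹ * (p * r * p⁻¹) :=
            fun p q r => by group
          rcases hx k hk with e1 | e1 <;> rcases hy k hk with e2 | e2 <;>
            simp only [e1, e2, split, ha]
        have e := hswap _ hj'
        simp only [mul_assoc, mul_inv_cancel_left, mul_inv_cancel, mul_one] at e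
        rw [commute_iff_eq, ← mul_inv_eq_iff_eq_mul]
        push_cast
        simpa [mul_assoc] using e
      have := (S.π_ker _).2 hcen
      rwa [map_mul, map_inv, mul_inv_eq_one, map_mul, map_mul] at this
    have := S.simple_psp
    let _ : CommGroup (Cfsg.PSp 2 F) :=
      { (inferInstance : Group (Cfsg.PSp 2 F)) with mul_comm := hcomm }
    have hp := IsSimpleGroup.prime_card (α := Cfsg.PSp 2 F)
    rw [S.card_psp] at hp
    norm_num at hp

/-- The data of the recognition on `H₀` modulo `⟨a⟩`. -/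
theorem base_quot [Finite G] (S : Setup3 z a J H₀ π) [(aSub S).Normal] :
    ∃ π' : ↥(Subgroup.centralizer ({pr S ⟨z, S.J_le S.z_mem⟩} : Set (Q S))) →* Cfsg.PSp 2 F,
      Base (pr S ⟨z, S.J_le S.z_mem⟩) ((J.subgroupOf H₀).map (pr S)) π' := by
  have hπ : aSub S ≤ π.ker := fun x hx => by
    rw [MonoidHom.mem_ker, S.π_ker]
    rcases (mem_aSub S).1 hx with h | h <;> rw [h]
    exacts [J.one_mem, S.a_mem]
  let πQ : Q S →* Cfsg.PSp 2 F := QuotientGroup.lift (aSub S) π hπ
  have hπQ : ∀ x, πQ (pr S x) = π x := fun x => rfl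
  have hsurj : ∀ q, ∃ x : ↥H₀, pr S x = q := QuotientGroup.mk'_surjective _
  have hzc : ∀ x : ↥H₀, Commute (⟨z, S.J_le S.z_mem⟩ : ↥H₀) x := fun x => Subtype.ext
    (Subgroup.mem_centralizer_iff.1 (S.le_cent x.2) z rfl)
  have hall : ∀ q : Q S,
      q ∈ Subgroup.centralizer ({pr S ⟨z, S.J_le S.z_mem⟩} : Set (Q S)) := fun q => by
    obtain ⟨x, rfl⟩ := hsurj q
    exact Subgroup.mem_centralizer_singleton_iff.2 ((hzc x).map (pr S)).eq.symm
  have hmem : ∀ x : ↥H₀, pr S x ∈ (J.subgroupOf H₀).map (pr S) ↔ (x : G) ∈ J := by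
    refine fun x => ⟨?_, fun hx => ⟨x, hx, rfl⟩⟩
    rintro ⟨y, hy, hyx⟩
    rcases (pr_eq S).1 hyx with h | h <;> rw [h]
    exacts [hy, mul_mem hy S.a_mem]
  have heq : ∀ {x y : ↥H₀}, (x : G) = y → pr S x = pr S y := fun h => congrArg _ (Subtype.ext h)
  refine ⟨πQ.comp (Subgroup.subtype _), ?_⟩
  refine
    { card_F := S.card_F
      sq := by rw [← map_mul]; exact (heq (by exact S.sq)).trans (map_one _)
      ne_one := fun h => by
        rcases (pr_eq S).1 (h.trans (map_one (pr S)).symm) with e | e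
        · exact S.ne_one e.symm
        · refine az_ne S ?_
          have e' : (1 : G) = z * a := e
          rw [← (Subgroup.mem_centralizer_iff.1 (S.le_cent (S.J_le S.a_mem)) z rfl)]
          exact e'.symm
      le_cent := fun q _ => hall q
      z_mem := (hmem _).2 S.z_mem
      card_J := ?_
      conj_mem := fun g _ j hj => ?_
      sq_mem := fun p hp => ?_
      comm_mem := fun p hp q hq => ?_
      center := fun p hp hc => ?_
      self_cent := fun g _ hc => ?_
      π_surj := fun p => ?_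
      π_ker := fun g => ?_
      card_cent := ?_ }
  · have hle : aSub S ≤ J.subgroupOf H₀ := fun x hx => by
      show (x : G) ∈ J
      rcases (mem_aSub S).1 hx with h | h <;> rw [h]
      exacts [J.one_mem, S.a_mem]
    let f : ↥(J.subgroupOf H₀) →* Q S := (pr S).comp (Subgroup.subtype _)
    have hr : f.range = (J.subgroupOf H₀).map (pr S) := by
      rw [MonoidHom.range_comp, Subgroup.range_subtype]
    have hk : Nat.card f.ker = 2 := by
      have e : Set.range (fun x : f.ker => (((x : ↥(J.subgroupOf H₀)) : ↥H₀) : G)) = {1, a} := by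
        ext x
        simp only [Set.mem_range, Set.mem_insert_iff, Set.mem_singleton_iff]
        constructor
        · rintro ⟨⟨y, hy⟩, rfl⟩
          exact (mem_aSub S).1 ((QuotientGroup.eq_one_iff _).1 hy)
        · rintro (rfl | rfl)
          · exact ⟨1, rfl⟩
          · exact ⟨⟨⟨⟨x, S.J_le S.a_mem⟩, S.a_mem⟩,
              (QuotientGroup.eq_one_iff _).2 ((mem_aSub S).2 (Or.inr rfl))⟩, rfl⟩
      have e' := congrArg Set.ncard e
      rwa [Set.ncard_pair S.a_out.1.symm, ← Nat.card_coe_set_eq,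
        Nat.card_range_of_injective (fun p q hpq => Subtype.ext (Subtype.ext (Subtype.ext hpq)))]
        at e'
    have h1 := Subgroup.card_mul_index f.ker
    rw [Subgroup.index_ker, hr, hk, Nat.card_congr (Subgroup.subgroupOfEquivOfLe S.J_le).toEquiv,
      S.card_J] at h1
    omega
  · obtain ⟨g, rfl⟩ := hsurj g
    obtain ⟨j, hj, rfl⟩ := hj
    rw [← map_inv, ← map_mul, ← map_mul]
    exact (hmem _).2 (S.conj_mem g (S.le_cent g.2) j hj)
  · obtain ⟨p, hp', rfl⟩ := hp
    rw [← map_mul]
    refine (S.sq_mem p hp').imp (fun h => ?_) (fun h => ?_)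
    · exact (heq (by exact h)).trans (map_one _)
    · exact heq h
  · obtain ⟨p, hp', rfl⟩ := hp
    obtain ⟨q, hq', rfl⟩ := hq
    rw [← map_mul, ← map_mul, ← map_mul]
    exact (S.comm_mem p hp' q hq').imp (fun h => heq h) (fun h => heq h)
  · obtain ⟨p, hp', rfl⟩ := hp
    have hcen : ∀ q ∈ J, Commute (p : G) q := by
      intro q hq
      have h := hc _ ((hmem ⟨q, S.J_le hq⟩).2 hq)
      rw [commute_iff_eq, ← map_mul, ← map_mul, pr_eq S] at h
      rcases S.comm_mem p hp' q hq with e | e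
      · exact e
      · exfalso
        rcases h with h | h
        · refine S.ne_one ?_
          have h' : q * (p : G) = (p : G) * q := h
          rw [e, left_eq_mul] at h'
          exact h'
        · have h' : q * (p : G) = (p : G) * q * a := h
          rw [e, mul_assoc, left_eq_mul] at h'
          exact az_ne S ((Subgroup.mem_centralizer_iff.1 (S.le_cent (S.J_le S.a_mem)) z rfl) ▸ h')
    rcases S.center p hp' hcen with h | h | h | h
    · exact Or.inl ((heq (by exact h)).trans (map_one _))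
    · exact Or.inr (heq h)
    · exact Or.inl ((QuotientGroup.eq_one_iff _).2 ((mem_aSub S).2 (Or.inr h)))
    · refine Or.inr ((pr_eq S).2 (Or.inr ?_))
      show z = (p : G) * a
      rw [h, mul_assoc, (Subgroup.mem_centralizer_iff.1 (S.le_cent (S.J_le S.a_mem)) z rfl),
        ← mul_assoc, S.a_sq, one_mul]
  · obtain ⟨g, rfl⟩ := hsurj g
    refine (hmem g).2 (mem_J_of_trivial S fun j hj => ?_)
    have h := hc _ ((hmem ⟨j, S.J_le hj⟩).2 hj)
    rw [commute_iff_eq, ← map_mul, ← map_mul, pr_eq S] at h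
    rcases h with h | h
    · left
      have h' : j * (g : G) = (g : G) * j := h
      rw [← h', mul_inv_cancel_right]
    · right
      have h' : j * (g : G) = (g : G) * j * a := h
      rw [show (g : G) * j = j * g * a by rw [h', mul_assoc _ a a, S.a_sq, mul_one], mul_assoc j,
        ← (S.a_H₀ g g.2).eq, ← mul_assoc, mul_inv_cancel_right]
  · obtain ⟨x, rfl⟩ := S.π_surj p
    exact ⟨⟨pr S x, hall _⟩, rfl⟩
  · obtain ⟨x, hx⟩ := hsurj g.1
    show πQ g.1 = 1 ↔ _
    rw [← hx, hπQ, S.π_ker, hmem]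
  · rw [show Subgroup.centralizer ({pr S ⟨z, S.J_le S.z_mem⟩} : Set (Q S)) = ⊤ from
      top_unique fun q _ => hall q, Subgroup.card_top]
    have h2 : Nat.card (aSub S) = 2 := by
      have e : Set.range (fun x : aSub S => ((x : ↥H₀) : G)) = {1, a} := by
        ext x
        simp only [Set.mem_range, Set.mem_insert_iff, Set.mem_singleton_iff]
        constructor
        · rintro ⟨y, rfl⟩; exact (mem_aSub S).1 y.2
        · rintro (rfl | rfl)
          · exact ⟨1, rfl⟩
          · exact ⟨⟨⟨x, S.J_le S.a_mem⟩, (mem_aSub S).2 (Or.inr rfl)⟩, rfl⟩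
      have e' := congrArg Set.ncard e
      rwa [Set.ncard_pair S.a_out.1.symm, ← Nat.card_coe_set_eq,
        Nat.card_range_of_injective (fun p q hpq => Subtype.ext (Subtype.ext hpq))] at e'
    have h1 := Subgroup.card_eq_card_quotient_mul_card_subgroup (aSub S)
    rw [h2, S.card_H₀] at h1
    show Nat.card (↥H₀ ⧸ aSub S) = _
    omega

end H50.Fi22C
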